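import Groth.Prelude.Def_ega3
import Mathlib.AlgebraicGeometry.FunctionField
import Mathlib.FieldTheory.IsAlgClosed.AlgebraicClosure
import Mathlib.FieldTheory.SeparableDegree
import Mathlib.FieldTheory.Normal.Basic

/-!
# A connected geometric generic fibre makes functions radicial over the base
-/

set_option autoImplicit false
universe u

open CategoryTheory CategoryTheory.Limits AlgebraicGeometry TopologicalSpace Opposite

namespace Groth.Misc6.GeomConnectedProper

variable {X Y : Scheme.{u}}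

/-- Functions at a field-valued point: the point lies in `D(a)` iff the value is non-zero. -/
theorem mem_basicOpen_iff {F : Type u} [Field F] (w : Spec (CommRingCat.of F) ⟶ X) (a : Γ(X, ⊤))
    (t : Spec (CommRingCat.of F)) :
    w t ∈ X.basicOpen a ↔ (w.appTop ≫ (Scheme.ΓSpecIso (CommRingCat.of F)).hom) a ≠ 0 := by
  have h : w ⁻¹ᵁ X.basicOpen a = (Spec (CommRingCat.of F)).basicOpen (w.appTop a) :=
    Scheme.preimage_basicOpen w a
  change t ∈ w ⁻¹ᵁ X.basicOpen a ↔ _
  rw [h, basicOpen_eq_of_affine']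
  show (Scheme.ΓSpecIso (CommRingCat.of F)).hom (w.appTop a) ∉ t.asIdeal ↔ _
  have : t.asIdeal = ⊥ := (Ideal.eq_bot_or_top t.asIdeal).resolve_right t.isPrime.ne_top
  rw [this, Ideal.mem_bot]
  rfl

theorem fromSpecStalk_appLE {x : X} {U : X.Opens} (hx : x ∈ U)
    (h : ⊤ ≤ X.fromSpecStalk x ⁻¹ᵁ U) :
    (X.fromSpecStalk x).appLE U ⊤ h ≫ (Scheme.ΓSpecIso _).hom = X.presheaf.germ U x hx := by
  rw [Scheme.Hom.appLE, Scheme.fromSpecStalk_app hx]
  simp only [Category.assoc, ← Functor.map_comp_assoc]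
  rw [show ((homOfLE le_top).op ≫ (homOfLE h).op : (op (⊤ : (Spec (X.presheaf.stalk x)).Opens)) ⟶ op ⊤) = 𝟙 _
      from Subsingleton.elim _ _, CategoryTheory.Functor.map_id, Category.id_comp, Iso.inv_hom_id,
    Category.comp_id]

/-- In a connected non-empty scheme only one of finitely many constants can be a value of a function
annihilated by their product. -/
theorem eq_of_connected [ConnectedSpace X] {O : Type*} [CommRing O] (c : O →+* Γ(X, ⊤)) (S : Finset O)
    (hS : ∀ r ∈ S, ∀ r' ∈ S, r ≠ r' → IsUnit (r - r')) (β : Γ(X, ⊤))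
    (h : ∀ x : X, ∃ r ∈ S, x ∉ X.basicOpen (β - c r))
    {r r' : O} (hr : r ∈ S) (hr' : r' ∈ S) (x x' : X) (hx : x ∉ X.basicOpen (β - c r))
    (hx' : x' ∉ X.basicOpen (β - c r')) : r = r' := by
  let Z : O → Set X := fun s => (X.basicOpen (β - c s) : Set X)ᶜ
  have hcl : ∀ s, IsClosed (Z s) := fun s => (X.basicOpen _).isOpen.isClosed_compl
  have hdisj : ∀ s ∈ S, ∀ s' ∈ S, ∀ y, y ∈ Z s → y ∈ Z s' → s = s' := by
    intro s hs s' hs' y hy hy'
    by_contra hne
    have hu : IsUnit ((β - c s') - (β - c s)) := by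
      rw [show (β - c s') - (β - c s) = c (s - s') by rw [map_sub]; ring]
      exact (hS s hs s' hs' hne).map c
    have h1 := (hu.map (X.presheaf.germ ⊤ y trivial).hom)
    rw [map_sub] at h1
    rcases IsLocalRing.isUnit_or_isUnit_of_isUnit_add (by rwa [sub_eq_add_neg] at h1) with h2 | h2
    · exact hy' ((X.mem_basicOpen (U := ⊤) _ y trivial).2 h2)
    · exact hy ((X.mem_basicOpen (U := ⊤) _ y trivial).2 (by simpa using h2.neg))
  have hopen : IsOpen (Z r) := by
    classical
    have : Z r = (⋃ s ∈ (↑(S.erase r) : Set O), Z s)ᶜ := by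
      ext y
      simp only [Set.mem_compl_iff, Set.mem_iUnion, Finset.mem_coe, Finset.mem_erase, not_exists]
      constructor
      · exact fun hy s ⟨hsr, hs⟩ hy' => hsr (hdisj s hs r hr y hy' hy)
      · intro hy
        obtain ⟨s, hs, hys⟩ := h y
        by_cases hsr : s = r
        · exact hsr ▸ hys
        · exact absurd hys (hy s ⟨hsr, hs⟩)
    rw [this]
    exact ((Finset.finite_toSet _).isClosed_biUnion fun s _ => hcl s).isOpen_compl
  exact hdisj r hr r' hr' x' ((IsClopen.eq_univ ⟨hcl r, hopen⟩ ⟨x, hx⟩).symm ▸ Set.mem_univ x') hx'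

/-- If the geometric generic fibre is connected, a function integral over the base is radicial over it. -/
theorem exists_pow_mem_range [IsIntegral X] [IsIntegral Y] (f : X ⟶ Y)
    (hdom : f.base (genericPoint X) ⤳ genericPoint Y)
    (hconn : ∀ (Ω : Type u) [Field Ω] [IsAlgClosed Ω] (y : Spec (CommRingCat.of Ω) ⟶ Y),
      ConnectedSpace ↥(pullback f y))
    (U : Y.Opens) (hηU : genericPoint Y ∈ U) (hξ : genericPoint X ∈ f ⁻¹ᵁ U) (b : Γ(X, f ⁻¹ᵁ U))
    (hb : (f.app U).hom.IsIntegralElem b) :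
    ∃ e : ℕ, (X.presheaf.germ (f ⁻¹ᵁ U) (genericPoint X) hξ b : X.functionField) ^
        (ringExpChar X.functionField ^ e) ∈
      Set.range (CohIII.stalkToFunctionField f (genericPoint Y) hdom) := by
  classical
  let K := Y.functionField
  let L := X.functionField
  let σ : K →+* L := CohIII.stalkToFunctionField f (genericPoint Y) hdom
  letI : Algebra K L := σ.toAlgebra
  let Ω := AlgebraicClosure K
  let F := AlgebraicClosure L
  let z : L := X.presheaf.germ (f ⁻¹ᵁ U) (genericPoint X) hξ b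
  let gU : Γ(Y, U) →+* K := (Y.presheaf.germ U (genericPoint Y) hηU).hom
  obtain ⟨P, hP, hPb⟩ := hb
  -- the generic point of `X` over the generic point of `Y`
  let pη : Spec (CommRingCat.of Ω) ⟶ Y :=
    Spec.map (CommRingCat.ofHom (algebraMap K Ω)) ≫ Y.fromSpecStalk (genericPoint Y)
  have hξη : X.fromSpecStalk (genericPoint X) ≫ f =
      Spec.map (CommRingCat.ofHom σ) ≫ Y.fromSpecStalk (genericPoint Y) := by
    rw [← Scheme.SpecMap_stalkMap_fromSpecStalk, show CommRingCat.ofHom σ =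
      Y.presheaf.stalkSpecializes hdom ≫ f.stalkMap (genericPoint X) from rfl, Spec.map_comp, Category.assoc,
      Scheme.SpecMap_stalkSpecializes_fromSpecStalk]
  have hzP : Polynomial.eval₂ (σ.comp gU) z P = 0 := by
    have h1 := Polynomial.hom_eval₂ P (f.app U).hom (X.presheaf.germ (f ⁻¹ᵁ U) (genericPoint X) hξ).hom b
    rw [hPb, map_zero] at h1
    refine Eq.trans ?_ h1.symm
    congr 1
    refine RingHom.ext fun a => ?_
    show f.stalkMap (genericPoint X) (Y.presheaf.stalkSpecializes hdom (Y.presheaf.germ U (genericPoint Y) hηU a)) =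
      X.presheaf.germ (f ⁻¹ᵁ U) (genericPoint X) hξ (f.app U a)
    rw [TopCat.Presheaf.germ_stalkSpecializes_apply, Scheme.Hom.germ_stalkMap_apply]
  have hPK0 : (P.map gU) ≠ 0 := (hP.map gU).ne_zero
  have hzK : Polynomial.aeval z (P.map gU) = 0 := by
    rw [Polynomial.aeval_def, Polynomial.eval₂_map]; exact hzP
  have hzint : IsIntegral K z := ⟨P.map gU, hP.map gU, by rw [Polynomial.eval₂_map]; exact hzP⟩
  -- roots
  let S : Finset Ω := ((P.map gU).aroots Ω).toFinset
  have hmin : ∀ r : Ω, r ∈ (minpoly K z).aroots Ω → r ∈ S := by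
    intro r hr
    rw [Polynomial.mem_aroots] at hr
    rw [Multiset.mem_toFinset, Polynomial.mem_aroots]
    refine ⟨hPK0, ?_⟩
    obtain ⟨Q, hQ⟩ := minpoly.dvd K z hzK
    rw [hQ, map_mul, hr.2, zero_mul]
  -- the geometric generic fibre and the two structure maps
  let W := pullback f pη
  haveI : ConnectedSpace ↥W := hconn Ω pη
  have hclY : ∀ q : Spec (Y.presheaf.stalk (genericPoint Y)), Y.fromSpecStalk (genericPoint Y) q ∈ U := fun q => by
    rw [show q = IsLocalRing.closedPoint K from Subsingleton.elim (α := PrimeSpectrum K) _ _]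
    exact Scheme.fromSpecStalk_closedPoint.symm ▸ hηU
  have hpη : ⊤ ≤ pη ⁻¹ᵁ U := fun t _ => hclY _
  have hW : ⊤ ≤ pullback.fst f pη ⁻¹ᵁ f ⁻¹ᵁ U := fun t _ => by
    show (pullback.fst f pη ≫ f) t ∈ U
    rw [pullback.condition]
    exact hpη trivial
  let ev : Γ(X, f ⁻¹ᵁ U) →+* Γ(W, ⊤) := ((pullback.fst f pη).appLE (f ⁻¹ᵁ U) ⊤ hW).hom
  let c : Ω →+* Γ(W, ⊤) :=
    ((Scheme.ΓSpecIso (CommRingCat.of Ω)).inv ≫ (pullback.snd f pη).appTop).hom
  have hev : ev.comp (f.app U).hom = c.comp ((algebraMap K Ω).comp gU) := by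
    have h1 : f.app U ≫ (pullback.fst f pη).appLE (f ⁻¹ᵁ U) ⊤ hW =
        pη.appLE U ⊤ hpη ≫ (pullback.snd f pη).appTop := by
      rw [show (pullback.snd f pη).appTop = (pullback.snd f pη).appLE ⊤ ⊤ le_top from
        Scheme.Hom.app_eq_appLE _, Scheme.Hom.app_eq_appLE, Scheme.Hom.appLE_comp_appLE,
        Scheme.Hom.appLE_comp_appLE]
      congr 1
      exact pullback.condition
    have h2 : pη.appLE U ⊤ hpη ≫ (Scheme.ΓSpecIso (CommRingCat.of Ω)).hom =
        Y.presheaf.germ U (genericPoint Y) hηU ≫ CommRingCat.ofHom (algebraMap K Ω) := by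
      have hle : (⊤ : (Spec (Y.presheaf.stalk (genericPoint Y))).Opens) ≤
          Y.fromSpecStalk (genericPoint Y) ⁻¹ᵁ U := fun s _ => hclY s
      rw [← Scheme.Hom.appLE_comp_appLE _ _ U ⊤ ⊤ hle le_top, Category.assoc,
        show (Spec.map (CommRingCat.ofHom (algebraMap K Ω))).appLE ⊤ ⊤ le_top =
          (Spec.map (CommRingCat.ofHom (algebraMap K Ω))).appTop from (Scheme.Hom.app_eq_appLE _).symm,
        Scheme.ΓSpecIso_naturality, ← Category.assoc]
      exact congrArg (· ≫ CommRingCat.ofHom (algebraMap K Ω)) (fromSpecStalk_appLE hηU hle)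
    have h3 : pη.appLE U ⊤ hpη = (Y.presheaf.germ U (genericPoint Y) hηU ≫
        CommRingCat.ofHom (algebraMap K Ω)) ≫ (Scheme.ΓSpecIso (CommRingCat.of Ω)).inv := by
      rw [← h2, Category.assoc, Iso.hom_inv_id, Category.comp_id]
    rw [h3, Category.assoc, Category.assoc] at h1
    exact congrArg CommRingCat.Hom.hom h1
  have hzero : ∀ t : W, ∃ r ∈ S, t ∉ W.basicOpen (ev b - c r) := by
    intro t
    by_contra! hall
    have hu : ∀ r ∈ S, IsUnit (W.presheaf.germ ⊤ t trivial (ev b - c r)) := fun r hr =>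
      (W.mem_basicOpen (U := ⊤) _ t trivial).1 (hall r hr)
    let R : Multiset Ω := (P.map gU).aroots Ω
    have hsplit : (P.map ((algebraMap K Ω).comp gU)) = (R.map fun r => Polynomial.X - Polynomial.C r).prod := by
      have h := (IsAlgClosed.splits ((P.map gU).map (algebraMap K Ω))).eq_prod_roots
      rw [((hP.map gU).map _).leadingCoeff, map_one, one_mul] at h
      rw [← Polynomial.map_map]
      exact h
    have h0 : Polynomial.eval₂ (c.comp ((algebraMap K Ω).comp gU)) (ev b) P = 0 := by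
      rw [← hev, ← Polynomial.hom_eval₂, hPb, map_zero]
    rw [← Polynomial.eval₂_map, hsplit, Polynomial.eval₂_multiset_prod, Multiset.map_map] at h0
    have h0' := congrArg (W.presheaf.germ ⊤ t trivial).hom h0
    rw [map_zero, map_multiset_prod, Multiset.map_map] at h0'
    refine not_isUnit_zero (M₀ := W.presheaf.stalk t) (h0' ▸ ?_)
    refine Multiset.prod_induction IsUnit _ (fun _ _ ha hb => ha.mul hb) isUnit_one fun x hx => ?_
    obtain ⟨r, hr, rfl⟩ := Multiset.mem_map.1 hx
    simpa using hu r (Multiset.mem_toFinset.2 hr)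
  -- a point for every conjugate
  obtain ⟨φ⟩ : Nonempty (Ω →ₐ[K] F) := ⟨IsAlgClosed.lift⟩
  let zF : F := algebraMap L F z
  have hpt : ∀ r : Ω, r ∈ (minpoly K z).aroots Ω → ∃ t : W, t ∉ W.basicOpen (ev b - c r) := by
    intro r hr
    -- an embedding sending `r` to `z`
    have hzr : zF ∈ Set.range φ := by
      have h1 : Polynomial.eval₂ φ.toRingHom zF ((minpoly K z).map (algebraMap K Ω)) = 0 := by
        rw [Polynomial.eval₂_map, AlgHom.toRingHom_eq_coe, φ.comp_algebraMap]
        show Polynomial.aeval (algebraMap L F z) (minpoly K z) = 0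
        rw [Polynomial.aeval_algebraMap_apply, minpoly.aeval, map_zero]
      rw [(IsAlgClosed.splits ((minpoly K z).map (algebraMap K Ω))).eq_prod_roots,
        ((minpoly.monic hzint).map _).leadingCoeff, map_one, one_mul, Polynomial.eval₂_multiset_prod,
        Multiset.map_map, Multiset.prod_eq_zero_iff] at h1
      obtain ⟨x, -, hx⟩ := Multiset.mem_map.1 h1
      simp only [Function.comp_apply, Polynomial.eval₂_sub, Polynomial.eval₂_X, Polynomial.eval₂_C] at hx
      exact ⟨x, (sub_eq_zero.1 hx).symm⟩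
    obtain ⟨r₁, hr₁⟩ := hzr
    have hmr : minpoly K r₁ = minpoly K z := by
      rw [← minpoly.algHom_eq φ φ.toRingHom.injective r₁, hr₁]
      exact minpoly.algebraMap_eq (algebraMap L F).injective z
    obtain ⟨τ, hτ⟩ := minpoly.exists_algEquiv_of_root (K := K) (L := Ω) (x := r) (y := r₁)
      (Algebra.IsAlgebraic.isAlgebraic r₁) (by rw [hmr]; exact (Polynomial.mem_aroots.1 hr).2)
    let φ' : Ω →ₐ[K] F := φ.comp τ.toAlgHom
    have hφ' : φ' r = zF := by
      simp only [φ', AlgHom.comp_apply]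
      rw [show τ.toAlgHom r = r₁ from hτ]
      exact hr₁
    let a : Spec (CommRingCat.of F) ⟶ X :=
      Spec.map (CommRingCat.ofHom (algebraMap L F)) ≫ X.fromSpecStalk (genericPoint X)
    let s : Spec (CommRingCat.of F) ⟶ Spec (CommRingCat.of Ω) := Spec.map (CommRingCat.ofHom φ'.toRingHom)
    have hcomm : a ≫ f = s ≫ pη := by
      simp only [a, s, pη, Category.assoc, hξη]
      rw [← Category.assoc, ← Category.assoc, ← Spec.map_comp, ← Spec.map_comp]
      congr 2
      exact CommRingCat.hom_ext (RingHom.ext fun x => (φ'.commutes x).symm)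
    let w : Spec (CommRingCat.of F) ⟶ W := pullback.lift a s hcomm
    refine ⟨w (IsLocalRing.closedPoint F), fun hmem => ?_⟩
    refine (mem_basicOpen_iff w _ _).1 hmem ?_
    let E : Γ(W, ⊤) →+* F := (w.appTop ≫ (Scheme.ΓSpecIso (CommRingCat.of F)).hom).hom
    show E (ev b - c r) = 0
    have hEc : E (c r) = φ' r := by
      have h : (Scheme.ΓSpecIso (CommRingCat.of Ω)).inv ≫ (pullback.snd f pη).appTop ≫ w.appTop ≫
          (Scheme.ΓSpecIso (CommRingCat.of F)).hom = CommRingCat.ofHom φ'.toRingHom := by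
        rw [← Scheme.Hom.comp_appTop_assoc, pullback.lift_snd, Scheme.ΓSpecIso_naturality, Iso.inv_hom_id_assoc]
      exact congr($h r)
    have hEb : E (ev b) = zF := by
      have hle' : (⊤ : (Spec (X.presheaf.stalk (genericPoint X))).Opens) ≤
          X.fromSpecStalk (genericPoint X) ⁻¹ᵁ f ⁻¹ᵁ U := fun t _ => by
        show X.fromSpecStalk (genericPoint X) t ∈ f ⁻¹ᵁ U
        rw [show t = IsLocalRing.closedPoint L from Subsingleton.elim (α := PrimeSpectrum L) _ _]
        exact Scheme.fromSpecStalk_closedPoint.symm ▸ hξ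
      have h : (pullback.fst f pη).appLE (f ⁻¹ᵁ U) ⊤ hW ≫ w.appTop ≫ (Scheme.ΓSpecIso (CommRingCat.of F)).hom =
          X.presheaf.germ (f ⁻¹ᵁ U) (genericPoint X) hξ ≫ CommRingCat.ofHom (algebraMap L F) := by
        rw [show w.appTop = w.appLE ⊤ ⊤ le_top from Scheme.Hom.app_eq_appLE _, ← Category.assoc,
          Scheme.Hom.appLE_comp_appLE]
        have e1 : ∀ (v v' : Spec (CommRingCat.of F) ⟶ X) (hv : v = v') (h1 : ⊤ ≤ v ⁻¹ᵁ f ⁻¹ᵁ U),
            v.appLE (f ⁻¹ᵁ U) ⊤ h1 = v'.appLE (f ⁻¹ᵁ U) ⊤ (hv ▸ h1) := by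
          rintro v _ rfl h1; rfl
        rw [e1 _ a (pullback.lift_fst _ _ _),
          ← Scheme.Hom.appLE_comp_appLE _ _ (f ⁻¹ᵁ U) ⊤ ⊤ hle' le_top, Category.assoc,
          show (Spec.map (CommRingCat.ofHom (algebraMap L F))).appLE ⊤ ⊤ le_top =
            (Spec.map (CommRingCat.ofHom (algebraMap L F))).appTop from (Scheme.Hom.app_eq_appLE _).symm,
          Scheme.ΓSpecIso_naturality, ← Category.assoc]
        exact congrArg (· ≫ CommRingCat.ofHom (algebraMap L F)) (fromSpecStalk_appLE hξ hle')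
      exact congr($h b)
    rw [map_sub, hEc, hEb, hφ', sub_self]
  have hone : (minpoly K z).natSepDegree = 1 := by
    rw [Polynomial.natSepDegree_eq_of_isAlgClosed Ω]
    obtain ⟨r₀, hr₀⟩ := IsAlgClosed.exists_aeval_eq_zero Ω (minpoly K z) (minpoly.degree_pos hzint).ne'
    have hr₀' : r₀ ∈ (minpoly K z).aroots Ω := Polynomial.mem_aroots.2 ⟨minpoly.ne_zero hzint, hr₀⟩
    refine Finset.card_eq_one.2 ⟨r₀, Finset.eq_singleton_iff_unique_mem.2
      ⟨Multiset.mem_toFinset.2 hr₀', fun r hr => ?_⟩⟩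
    rw [Multiset.mem_toFinset] at hr
    obtain ⟨t, ht⟩ := hpt r hr
    obtain ⟨t₀, ht₀⟩ := hpt r₀ hr₀'
    exact eq_of_connected c S (fun x _ y _ hxy => (sub_ne_zero.2 hxy).isUnit) (ev b) hzero
      (hmin r hr) (hmin r₀ hr₀') t t₀ ht ht₀
  obtain ⟨e, hmem⟩ := (minpoly.natSepDegree_eq_one_iff_pow_mem (ringExpChar K)).1 hone
  refine ⟨e, ?_⟩
  have hq : ringExpChar L = ringExpChar K := by
    haveI : ExpChar L (ringExpChar K) := expChar_of_injective_algebraMap σ.injective _
    exact ringExpChar.eq L (ringExpChar K)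
  rw [hq]
  exact hmem

end Groth.Misc6.GeomConnectedProper
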