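import Groth.Agent.HensPair.SteinUnibranch
import Groth.Agent.HensPair.NormalUnibranch
import Groth.Agent.Misc6.GeomConnectedProper.Radicial

/-!
# Connected fibres over unibranch points, from radicial integral functions
-/

set_option autoImplicit false
universe u

open CategoryTheory CategoryTheory.Limits AlgebraicGeometry TopologicalSpace Opposite

namespace Groth.Misc6.GeomConnectedProper

open Groth.HensPair

variable {X Y : Scheme.{u}} [IsIntegral X] [IsIntegral Y]

/-- Radiciality of integral functions on preimages of affine opens. -/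
def FunRadicial (f : X ⟶ Y) (hdom : f.base (genericPoint X) ⤳ genericPoint Y) : Prop :=
  ∀ (U : Y.Opens) (_ : genericPoint Y ∈ U) (hξ : genericPoint X ∈ f ⁻¹ᵁ U) (b : Γ(X, f ⁻¹ᵁ U)),
    (f.app U).hom.IsIntegralElem b →
    ∃ e : ℕ, (X.presheaf.germ (f ⁻¹ᵁ U) (genericPoint X) hξ b : X.functionField) ^
        (ringExpChar X.functionField ^ e) ∈
      Set.range (CohIII.stalkToFunctionField f (genericPoint Y) hdom)

theorem subsingleton_preimage (f : X ⟶ Y) [IsProper f]
    (hdom : f.base (genericPoint X) ⤳ genericPoint Y) (hrad : FunRadicial f hdom)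
    (y : Y) (hy : CAlg2.IsUnibranch (Y.presheaf.stalk y)) :
    (f.fromNormalization.base ⁻¹' {y}).Subsingleton := by
  obtain ⟨_, ⟨U, hU, rfl⟩, hyU, -⟩ :=
    Y.isBasis_affineOpens.exists_subset_of_mem_open (Set.mem_univ y) isOpen_univ
  replace hU : IsAffineOpen U := hU
  have hη : genericPoint Y ∈ U := ((genericPoint_spec Y).mem_open_set_iff U.2).2 ⟨y, trivial, hyU⟩
  have hξ : genericPoint X ∈ f ⁻¹ᵁ U := hdom.mem_open U.2 hη
  have : Nonempty U := ⟨⟨_, hη⟩⟩
  have : Nonempty (f ⁻¹ᵁ U) := ⟨⟨_, hξ⟩⟩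
  let ν := f.toNormalization
  let g := f.fromNormalization
  intro n₁ hn₁ n₂ hn₂
  have hV : IsAffineOpen (g ⁻¹ᵁ U) := hU.preimage g
  have hnV : ∀ n, g n = y → n ∈ g ⁻¹ᵁ U := fun n hn => by show g n ∈ U; rw [hn]; exact hyU
  let σ₀ := CohIII.stalkToFunctionField f (genericPoint Y) hdom
  have he : f ⁻¹ᵁ U = ν ⁻¹ᵁ g ⁻¹ᵁ U := by
    rw [← Scheme.Hom.comp_preimage, Scheme.Hom.toNormalization_fromNormalization]
  let ι := ν.appLE (g ⁻¹ᵁ U) (f ⁻¹ᵁ U) he.le
  have : IsIso ι := by
    have := isIso_toNormalization_app_preimage f hU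
    have h : ι = ν.app (g ⁻¹ᵁ U) ≫ X.presheaf.map (eqToHom he).op := by
      rw [Scheme.Hom.app_eq_appLE, Scheme.Hom.appLE_map]
    rw [h]
    infer_instance
  let A := Γ(Y, U)
  let B := Γ(f.normalization, g ⁻¹ᵁ U)
  let _ : Algebra A B := (g.app U).hom.toAlgebra
  have : Algebra.IsIntegral A B := ⟨IsIntegralHom.isIntegral_app g U hU⟩
  let _ : Algebra A X.functionField := (σ₀.comp (Y.germToFunctionField U).hom).toAlgebra
  have h1 : g.app U ≫ ι = f.app U := by
    simp only [ι, g, ν, Scheme.Hom.app_eq_appLE, Scheme.Hom.appLE_comp_appLE,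
      Scheme.Hom.toNormalization_fromNormalization]
  have hσ : ∀ a : A, X.germToFunctionField (f ⁻¹ᵁ U) (ι (g.app U a)) = σ₀ (Y.germToFunctionField U a) := fun a => by
    show X.germToFunctionField (f ⁻¹ᵁ U) ((g.app U ≫ ι) a) = f.stalkMap (genericPoint X)
      (Y.presheaf.stalkSpecializes hdom (Y.presheaf.germ U (genericPoint Y) hη a))
    rw [h1, TopCat.Presheaf.germ_stalkSpecializes_apply, Scheme.Hom.germ_stalkMap_apply]
  let ψ : B →ₐ[A] X.functionField :=
    { ((X.germToFunctionField (f ⁻¹ᵁ U)).hom.comp ι.hom) with commutes' := hσ }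
  have hψ : Function.Injective ψ :=
    (X.germToFunctionField_injective _).comp (ConcreteCategory.bijective_of_isIso ι).1
  let σ : Y.functionField →ₐ[A] X.functionField := { σ₀ with commutes' := fun a => rfl }
  have := functionField_isFractionRing_of_isAffineOpen Y U hU
  have hrad' : ∀ b : B, ∃ (e : ℕ) (r : Y.functionField), ψ b ^ (ringExpChar X.functionField) ^ e = σ r := by
    intro b
    have hint : (f.app U).hom.IsIntegralElem (ι b) := by
      obtain ⟨P, hP, hP0⟩ := IsIntegralHom.isIntegral_app g U hU b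
      refine ⟨P, hP, ?_⟩
      have h2 := Polynomial.hom_eval₂ P (g.app U).hom ι.hom b
      rw [hP0, map_zero, show ι.hom.comp (g.app U).hom = (f.app U).hom from congrArg CommRingCat.Hom.hom h1] at h2
      exact h2.symm
    obtain ⟨e, r, hr⟩ := hrad U hη hξ (ι b) hint
    exact ⟨e, r, hr.symm⟩
  let O := Y.presheaf.stalk y
  let yU : U := ⟨y, hyU⟩
  let p := (hU.primeIdealOf yU).asIdeal
  let _ : Algebra A O := (Y.presheaf.germ U y hyU).hom.toAlgebra
  have : IsLocalization.AtPrime O p := hU.isLocalization_stalk yU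
  have hprime : ∀ n (hn : g n = y), (hV.primeIdealOf ⟨n, hnV n hn⟩).asIdeal.comap (algebraMap A B) = p := by
    intro n hn
    ext a
    show g.app U a ∈ (hV.primeIdealOf ⟨n, hnV n hn⟩).asIdeal ↔ a ∈ p
    rw [mem_primeIdealOf_iff, mem_primeIdealOf_iff, ← Scheme.preimage_basicOpen, Scheme.Hom.mem_preimage]
    show g n ∉ _ ↔ y ∉ _
    rw [hn]
  have : IsScalarTower A O Y.functionField :=
    functionField_isScalarTower Y U yU
  have h := prime_unique_of_unibranch ψ hψ σ (ringExpChar X.functionField) hrad' p (by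
    intro r s m hr hs hm hrs
    obtain ⟨z, hz, hz'⟩ := exists_inverse_of_unibranch hy r s (hr.tower_top) (hs.tower_top)
      (algebraMap A O m) (IsLocalization.map_units O (⟨m, hm⟩ : p.primeCompl))
      (hrs.trans (IsScalarTower.algebraMap_apply A O Y.functionField m))
    obtain ⟨⟨m', hm'⟩, hm''⟩ := IsIntegral.exists_multiple_integral_of_isLocalization p.primeCompl z hz
    refine ⟨m', m' • z, hm', hm'', ?_⟩
    rw [Algebra.smul_def]
    rcases hz' with hz' | hz'
    · left; rw [mul_left_comm, hz', mul_one]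
    · right; rw [mul_left_comm, hz', mul_one])
    (hV.primeIdealOf ⟨n₁, hnV n₁ hn₁⟩).asIdeal (hV.primeIdealOf ⟨n₂, hnV n₂ hn₂⟩).asIdeal
    (hprime n₁ hn₁) (hprime n₂ hn₂)
  calc n₁ = hV.fromSpec (hV.primeIdealOf ⟨n₁, hnV n₁ hn₁⟩) := (hV.fromSpec_primeIdealOf ⟨n₁, hnV n₁ hn₁⟩).symm
    _ = hV.fromSpec (hV.primeIdealOf ⟨n₂, hnV n₂ hn₂⟩) := congrArg _ (PrimeSpectrum.ext h)
    _ = n₂ := hV.fromSpec_primeIdealOf ⟨n₂, hnV n₂ hn₂⟩

/-- Connectedness of fibres over unibranch points. -/
theorem connectedSpace_fiber (f : X ⟶ Y) [IsProper f] [IsLocallyNoetherian Y]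
    (hPF : CohFin.ProjFinite.{u}) (hdom : f.base (genericPoint X) ⤳ genericPoint Y)
    (hrad : FunRadicial f hdom) (y : Y) (hy : CAlg2.IsUnibranch (Y.presheaf.stalk y)) :
    ConnectedSpace ↥(f.fiber y) := by
  have := geometricallyConnected_toNormalization f hPF
  have hy' : y ∈ Set.range f := by
    have h1 : y ∈ closure ({f (genericPoint X)} : Set Y) :=
      (hdom.trans ((genericPoint_spec Y).specializes (Set.mem_univ y))).mem_closure
    exact closure_minimal (Set.singleton_subset_iff.2 (Set.mem_range_self _)) f.isClosedMap.isClosed_range h1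
  obtain ⟨x, hx⟩ := hy'
  have hset : f.base ⁻¹' {y} = f.toNormalization.base ⁻¹' {f.toNormalization x} := by
    have hxn : f.fromNormalization (f.toNormalization x) = y := by
      rw [← Scheme.Hom.comp_apply, Scheme.Hom.toNormalization_fromNormalization, hx]
    ext z
    constructor
    · intro hz
      refine subsingleton_preimage f hdom hrad y hy ?_ hxn
      show f.fromNormalization (f.toNormalization z) = y
      rw [← Scheme.Hom.comp_apply, Scheme.Hom.toNormalization_fromNormalization]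
      exact hz
    · intro hz
      show f z = y
      rw [← f.toNormalization_fromNormalization, Scheme.Hom.comp_apply, show f.toNormalization z = _ from hz, hxn]
  have hc : _root_.IsConnected (f.base ⁻¹' {y}) := hset ▸ f.toNormalization.isConnected_preimage_singleton _
  have : ConnectedSpace ↥(f.base ⁻¹' {y}) := isConnected_iff_connectedSpace.1 hc
  exact (f.fiberHomeo y).connectedSpace_iff.2 this

omit [IsIntegral X] in
/-- Radiciality passes to a dense open extension. -/
theorem funRadicial_of_comp {Xc : Scheme.{u}} [IsIntegral X] [IsIntegral Xc] (j : X ⟶ Xc) [IsDominant j]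
    (g : Xc ⟶ Y) (hdom : (j ≫ g).base (genericPoint X) ⤳ genericPoint Y)
    (hdom' : g.base (genericPoint Xc) ⤳ genericPoint Y) (hrad : FunRadicial (j ≫ g) hdom) :
    FunRadicial g hdom' := by
  intro U hη hξ b hb
  have hjξ : j (genericPoint X) = genericPoint Xc := apply_genericPoint j
  have hsp : j (genericPoint X) ⤳ genericPoint Xc := by rw [hjξ]
  let Φ : Xc.functionField →+* X.functionField :=
    (j.stalkMap (genericPoint X)).hom.comp (Xc.presheaf.stalkSpecializes hsp).hom
  have hmem : genericPoint X ∈ (j ≫ g) ⁻¹ᵁ U := by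
    show g (j (genericPoint X)) ∈ U
    rw [hjξ]; exact hξ
  have hΦgerm : ∀ (V : Xc.Opens) (hV : genericPoint Xc ∈ V) (hV' : genericPoint X ∈ j ⁻¹ᵁ V) (a : Γ(Xc, V)),
      Φ (Xc.presheaf.germ V (genericPoint Xc) hV a) = X.presheaf.germ (j ⁻¹ᵁ V) (genericPoint X) hV' (j.app V a) := by
    intro V hV hV' a
    show j.stalkMap (genericPoint X) (Xc.presheaf.stalkSpecializes hsp (Xc.presheaf.germ V _ hV a)) = _
    rw [TopCat.Presheaf.germ_stalkSpecializes_apply, Scheme.Hom.germ_stalkMap_apply]
  have hcomm : Φ.comp (CohIII.stalkToFunctionField g (genericPoint Y) hdom') =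
      CohIII.stalkToFunctionField (j ≫ g) (genericPoint Y) hdom := by
    have h : Y.presheaf.stalkSpecializes hdom' ≫ g.stalkMap (genericPoint Xc) ≫
        Xc.presheaf.stalkSpecializes hsp ≫ j.stalkMap (genericPoint X) =
        Y.presheaf.stalkSpecializes hdom ≫ (j ≫ g).stalkMap (genericPoint X) := by
      refine TopCat.Presheaf.stalk_hom_ext _ fun V hV => CommRingCat.hom_ext (RingHom.ext fun a => ?_)
      show j.stalkMap (genericPoint X) (Xc.presheaf.stalkSpecializes hsp (g.stalkMap (genericPoint Xc)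
        (Y.presheaf.stalkSpecializes hdom' (Y.presheaf.germ V (genericPoint Y) hV a)))) =
          (j ≫ g).stalkMap (genericPoint X) (Y.presheaf.stalkSpecializes hdom (Y.presheaf.germ V (genericPoint Y) hV a))
      rw [TopCat.Presheaf.germ_stalkSpecializes_apply, TopCat.Presheaf.germ_stalkSpecializes_apply,
        Scheme.Hom.germ_stalkMap_apply, Scheme.Hom.germ_stalkMap_apply,
        TopCat.Presheaf.germ_stalkSpecializes_apply, Scheme.Hom.germ_stalkMap_apply]
      rfl
    exact congrArg CommRingCat.Hom.hom h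
  obtain ⟨P, hP, hP0⟩ := hb
  obtain ⟨e, r, hr⟩ := hrad U hη hmem (j.app (g ⁻¹ᵁ U) b) ⟨P, hP, by
    have h2 := Polynomial.hom_eval₂ P (g.app U).hom (j.app (g ⁻¹ᵁ U)).hom b
    rw [hP0, map_zero] at h2
    exact h2.symm⟩
  haveI : ExpChar X.functionField (ringExpChar Xc.functionField) := expChar_of_injective_ringHom Φ.injective _
  rw [ringExpChar.eq X.functionField (ringExpChar Xc.functionField)] at hr
  refine ⟨e, r, Φ.injective ?_⟩
  rw [map_pow, hΦgerm (g ⁻¹ᵁ U) hξ hmem b]
  refine Eq.trans ?_ hr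
  exact congr($hcomm r)

end Groth.Misc6.GeomConnectedProper
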